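import Groth.Agent.Desc44.ProjBundle.Quot
import Groth.Agent.Omega.Lift
import Groth.Prelude.Def_KRR

/-! Standard charts of a projective bundle given by its universal property. -/

set_option autoImplicit false
set_option backward.isDefEq.respectTransparency false
set_option backward.isDefEq.respectTransparency.types false

universe u

open CategoryTheory CategoryTheory.Limits AlgebraicGeometry TopologicalSpace Opposite
open Groth.Agent.PullStalk.Sky Groth.Agent.LFFrame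

noncomputable section

namespace Groth.Agent.Desc44.ProjBundle

variable {X P T : Scheme.{u}}

theorem isInvertible_of_rank_one {L : X.Modules} (hL : FlatMod.IsFinLocFreeOfRank 1 L) :
    PicF.IsInvertible L := fun x => by
  obtain ⟨U, hx, ⟨φ⟩⟩ := hL x
  exact ⟨U, hx, ⟨φ ≪≫ coproductUniqueIso fun _ : Fin 1 => Coh.structureModule (U : Scheme.{u})⟩⟩

theorem rank_one_of_isFrame {L : X.Modules} {W : X.Opens} (hW : ∀ x, x ∈ W) {f : Fin 1 → Γ(L, W)}
    (hf : IsFrame L W f) : FlatMod.IsFinLocFreeOfRank 1 L := fun x => by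
  obtain ⟨φ⟩ := hf.nonempty_restrict_iso
  exact ⟨W, hW x, ⟨φ ≪≫ (coproductUniqueIso fun _ : Fin 1 => Coh.structureModule (W : Scheme.{u})).symm⟩⟩

theorem isFrame_one (X : Scheme.{u}) (W : X.Opens) :
    IsFrame (Coh.structureModule X) W (fun _ : Fin 1 => (show Γ(Coh.structureModule X, W) from (1 : Γ(X, W)))) := by
  intro V hV
  have key : ∀ a : Fin 1 → Γ(X, V), comb (Coh.structureModule X)
      (fun _ : Fin 1 => (show Γ(Coh.structureModule X, W) from (1 : Γ(X, W)))) hV a =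
      (show Γ(Coh.structureModule X, V) from a 0) := by
    intro a
    simp only [comb, Fin.sum_univ_one]
    show a 0 * X.presheaf.map (homOfLE hV).op (1 : Γ(X, W)) = a 0
    rw [map_one, mul_one]
  refine ⟨fun a b h => ?_, fun t => ⟨fun _ => (show Γ(X, V) from t), key _⟩⟩
  funext i
  rw [Subsingleton.elim i 0]
  exact (key a).symm.trans (h.trans (key b))

variable (π : P ⟶ X) {E : X.Modules} {O1 : P.Modules} (q : (Scheme.Modules.pullback π).obj E ⟶ O1)
  {U : X.Opens} {n : ℕ} (e : Fin n → Γ(E, U))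

/-- the universal sections -/
def tau (i : Fin n) : Γ(O1, π ⁻¹ᵁ U) := q.app (π ⁻¹ᵁ U) (unitSec π E U (e i))

/-- the pulled back quotient -/
def quot {h : T ⟶ P} {g : T ⟶ X} (hg : h ≫ π = g) :
    (Scheme.Modules.pullback g).obj E ⟶ (Scheme.Modules.pullback h).obj O1 :=
  (Scheme.Modules.pullbackCongr hg).inv.app E ≫ (Scheme.Modules.pullbackComp h π).inv.app E ≫
    (Scheme.Modules.pullback h).map q

theorem map_unitSec {M N : P.Modules} (h : T ⟶ P) (φ : M ⟶ N) (V : P.Opens) (m : Γ(M, V)) :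
    ((Scheme.Modules.pullback h).map φ).app (h ⁻¹ᵁ V) (unitSec h M V m) = unitSec h N V (φ.app V m) :=
  congr(Scheme.Modules.Hom.app $(((Scheme.Modules.pullbackPushforwardAdjunction h).unit.naturality φ).symm) V m)

theorem quot_app {h : T ⟶ P} {g : T ⟶ X} (hg : h ≫ π = g) (i : Fin n)
    (hle : g ⁻¹ᵁ U ≤ h ⁻¹ᵁ (π ⁻¹ᵁ U)) :
    (quot π q hg).app (g ⁻¹ᵁ U) (unitSec g E U (e i)) = rs _ hle (unitSec h O1 (π ⁻¹ᵁ U) (tau π q e i)) := by
  subst hg
  have h1 : (quot π q (rfl : h ≫ π = h ≫ π)) =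
      (Scheme.Modules.pullbackComp h π).inv.app E ≫ (Scheme.Modules.pullback h).map q := by
    simp [quot, Scheme.Modules.pullbackCongr]
  rw [h1]
  show ((Scheme.Modules.pullback h).map q).app _ (((Scheme.Modules.pullbackComp h π).inv.app E).app _ _) = _
  erw [Omega.Lift.pullbackComp_inv_pullSect (j := h) (h := π)]
  erw [map_unitSec h q (π ⁻¹ᵁ U) (unitSec π E U (e i))]
  simp [rs, tau]

variable {m : ℕ} {U : X.Opens} (e : Fin (m + 1) → Γ(E, U)) (k : Fin (m + 1))

/-- the standard open -/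
def D : P.Opens := genLocus O1 (tau π q e k)

lemma D_le : D π q e k ≤ π ⁻¹ᵁ U := genLocus_le _

/-- the coordinates -/
def coord (i : Fin (m + 1)) : Γ(P, D π q e k) :=
  (exists_coord (isFrame_genLocus (tau π q e k)) (rs O1 (D_le π q e k) (tau π q e i))).choose

lemma coord_spec (i : Fin (m + 1)) :
    rs O1 (D_le π q e k) (tau π q e i) = coord π q e k i • rs O1 (D_le π q e k) (tau π q e k) :=
  (exists_coord (isFrame_genLocus (tau π q e k)) (rs O1 (D_le π q e k) (tau π q e i))).choose_spec.1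

lemma coord_self : coord π q e k k = 1 :=
  ((exists_coord (isFrame_genLocus (tau π q e k)) (rs O1 (D_le π q e k) (tau π q e k))).choose_spec.2 1
    (one_smul _ _).symm).symm

/-- the relation after pulling back -/
theorem unitSec_coord {h : T ⟶ P} {W : T.Opens} (hW : W ≤ h ⁻¹ᵁ D π q e k) (i : Fin (m + 1)) :
    rs _ (hW.trans (h.preimage_mono (D_le π q e k))) (unitSec h O1 _ (tau π q e i)) =
      h.appLE (D π q e k) W hW (coord π q e k i) •
        rs _ (hW.trans (h.preimage_mono (D_le π q e k))) (unitSec h O1 _ (tau π q e k)) := by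
  have := congrArg (fun t => rs _ hW (unitSec h O1 (D π q e k) t)) (coord_spec π q e k i)
  simp only [unitSec_smul, rs, unitSec_res h O1 (D_le π q e k), Scheme.Modules.map_smul, res_res] at this
  exact this

section univ

variable (hP : KRR.IsProjBundle π E O1 q) (he : IsFrame E U e)
include hP he

/-- two points of the chart with equal coordinates are equal -/
theorem hom_ext_coord {h₁ h₂ : T ⟶ P} (hπ : h₁ ≫ π = h₂ ≫ π) {W : T.Opens} (hW : ∀ t, t ∈ W)
    (h₁D : W ≤ h₁ ⁻¹ᵁ D π q e k) (h₂D : W ≤ h₂ ⁻¹ᵁ D π q e k)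
    (hc : ∀ i, h₁.appLE (D π q e k) W h₁D (coord π q e k i) = h₂.appLE (D π q e k) W h₂D (coord π q e k i)) :
    h₁ = h₂ := by
  let g := h₁ ≫ π
  let L := (Scheme.Modules.pullback h₁).obj O1
  have hf₁ := isFrame_pullback_genLocus (M := O1) h₁ (tau π q e k) h₁D
  have hf₂ := isFrame_pullback_genLocus (M := O1) h₂ (tau π q e k) h₂D
  obtain ⟨φ, hφ⟩ := exists_iso_of_frames hW hf₂ hf₁
  have hU : ∀ t, t ∈ g ⁻¹ᵁ U := fun t => (h₁.preimage_mono (D_le π q e k)) (h₁D (hW t))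
  have hs : Epi (quot π q (rfl : h₁ ≫ π = g)) := by
    refine epi_of_value hW hf₁ _ (m := rs _ (fun t _ => hU t) (unitSec g E U (e k))) ?_
    refine (NatTrans.naturality_apply (quot π q (rfl : h₁ ≫ π = g)).mapPresheaf _ _).trans ?_
    show rs _ _ ((quot π q (rfl : h₁ ≫ π = g)).app (g ⁻¹ᵁ U) (unitSec g E U (e k))) = _
    rw [quot_app π q e (rfl : h₁ ≫ π = g) k le_rfl, rs, rs, res_res]
  obtain ⟨h₀, -, huniq⟩ := hP.univ T g L (rank_one_of_isFrame hW hf₁) (quot π q (rfl : h₁ ≫ π = g)) hs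
  refine (huniq h₁ ⟨rfl, Iso.refl _, ?_⟩).trans (huniq h₂ ⟨hπ.symm, φ, ?_⟩).symm
  · simp only [Iso.refl_hom, Category.comp_id]
    rfl
  · have : quot π q (hπ.symm : h₂ ≫ π = g) ≫ φ.hom = quot π q (rfl : h₁ ≫ π = g) := by
      refine hom_ext_of_frame (U := g ⁻¹ᵁ U) hU (he.pullback g) fun i => ?_
      show φ.hom.app _ ((quot π q (hπ.symm : h₂ ≫ π = g)).app _ (unitSec g E U (e i))) =
        (quot π q (rfl : h₁ ≫ π = g)).app _ (unitSec g E U (e i))
      have hle₂ : g ⁻¹ᵁ U ≤ h₂ ⁻¹ᵁ (π ⁻¹ᵁ U) := fun t _ => h₂.preimage_mono (D_le π q e k) (h₂D (hW t))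
      rw [quot_app π q e (hπ.symm : h₂ ≫ π = g) i hle₂, quot_app π q e (rfl : h₁ ≫ π = g) i le_rfl]
      obtain rfl : W = g ⁻¹ᵁ U := by ext t; exact ⟨fun _ => hU t, fun _ => hW t⟩
      rw [unitSec_coord π q e k h₂D i, unitSec_coord π q e k h₁D i, hc i]
      refine (Scheme.Modules.Hom.app_smul φ.hom _ _).trans ?_
      rw [hφ 0]
    simpa [quot, Category.assoc] using this

/-- existence of points with given coordinates -/
theorem exists_hom_coord (g : T ⟶ X) (hU : ∀ t, t ∈ g ⁻¹ᵁ U) (x : Fin (m + 1) → Γ(T, g ⁻¹ᵁ U))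
    (hx : x k = 1) :
    ∃ (h : T ⟶ P) (_ : h ≫ π = g) (hD : g ⁻¹ᵁ U ≤ h ⁻¹ᵁ D π q e k),
      ∀ i, h.appLE (D π q e k) (g ⁻¹ᵁ U) hD (coord π q e k i) = x i := by
  have hone := isFrame_one T (g ⁻¹ᵁ U)
  obtain ⟨s, hs⟩ := exists_hom_of_frame (N := Coh.structureModule T) hU (he.pullback g)
    (fun i => (show Γ(Coh.structureModule T, g ⁻¹ᵁ U) from x i))
  have hepi : Epi s := epi_of_value hU hone s (m := unitSec g E U (e k))
    ((hs k).trans (by exact hx))
  obtain ⟨h, ⟨hg, φ, hφ⟩, -⟩ := hP.univ T g _ (rank_one_of_isFrame hU hone) s hepi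
  have hle : g ⁻¹ᵁ U ≤ h ⁻¹ᵁ (π ⁻¹ᵁ U) := by subst hg; exact le_rfl
  have val : ∀ i, φ.hom.app (g ⁻¹ᵁ U) (rs _ hle (unitSec h O1 (π ⁻¹ᵁ U) (tau π q e i))) =
      (show Γ(Coh.structureModule T, g ⁻¹ᵁ U) from x i) := fun i => by
    rw [← quot_app π q e hg i hle, ← hs i]
    exact congr(Scheme.Modules.Hom.app $hφ (g ⁻¹ᵁ U) (unitSec g E U (e i)))
  have hfr : IsFrame ((Scheme.Modules.pullback h).obj O1) (g ⁻¹ᵁ U)
      (fun _ : Fin 1 => rs _ hle (unitSec h O1 (π ⁻¹ᵁ U) (tau π q e k))) := by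
    convert isFrame_iso hone φ.symm using 2 with i
    have := congrArg (φ.inv.app (g ⁻¹ᵁ U)) ((val k).trans (by exact hx))
    refine Eq.trans ?_ this
    exact (congr(Scheme.Modules.Hom.app $(φ.hom_inv_id) (g ⁻¹ᵁ U)
      (rs _ hle (unitSec h O1 (π ⁻¹ᵁ U) (tau π q e k))))).symm
  have hD : g ⁻¹ᵁ U ≤ h ⁻¹ᵁ D π q e k := fun t ht =>
    map_mem_genLocus h (isInvertible_of_rank_one hP.invertible) hle hfr ht
  refine ⟨h, hg, hD, fun i => ?_⟩
  have := congrArg (φ.hom.app (g ⁻¹ᵁ U)) (unitSec_coord π q e k hD i)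
  rw [Scheme.Modules.Hom.app_smul, val i, val k, hx] at this
  exact (mul_one (M := Γ(T, g ⁻¹ᵁ U)) _).symm.trans this.symm

/-- every point over `U` lies in a chart -/
theorem exists_mem_D {x : P} (hx : π x ∈ U) : ∃ i, x ∈ D π q e i := by
  obtain ⟨U₀, r, f, hxU₀, hf⟩ := exists_isFrame_of_isInvertible (isInvertible_of_rank_one hP.invertible) x
  haveI := hP.epi
  by_contra hne
  push Not at hne
  let W := U₀ ⊓ π ⁻¹ᵁ U
  have hxW : x ∈ W := ⟨hxU₀, hx⟩
  have hfW := isFrame_restrict hf (inf_le_left : W ≤ U₀)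
  obtain ⟨U₁, φ₁⟩ := isInvertible_of_rank_one hP.invertible x
  have hr : r = 1 := by
    obtain ⟨hx₁, ⟨ψ⟩⟩ := φ₁
    obtain ⟨U₂, hx₂, ⟨ψ₂⟩⟩ := hP.invertible x
    obtain ⟨g₁, hg₁⟩ := exists_isFrame_of_split (M := O1) (U := U₁) (fun _ : Fin 1 => ψ.inv)
      (fun _ => ψ.hom) (fun i j => by simp [Subsingleton.elim i j]) (by simp)
    have h1 := hg₁.stalkComb_bijective x hx₁
    have h2 := hfW.stalkComb_bijective x hxW
    have := ((LinearEquiv.ofBijective _ h2).trans (LinearEquiv.ofBijective _ h1).symm).finrank_eq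
    simpa using this
  subst hr
  have hσ : IsFrame O1 W (fun _ : Fin 1 => rs O1 (inf_le_left : W ≤ U₀) (f 0)) := by
    convert hfW using 2 with i
    rw [Subsingleton.elim i 0]
  choose c hc _ using fun i => exists_coord hσ (rs O1 (inf_le_right : W ≤ π ⁻¹ᵁ U) (tau π q e i))
  have hnu : ∀ i, P.presheaf.germ W x hxW (c i) ∈ nonunits (P.presheaf.stalk x) := fun i hu =>
    hne i (mem_genLocus_of_unit inf_le_right hσ (hc i) hxW hu)
  let z := germM O1 W x hxW (rs O1 (inf_le_left : W ≤ U₀) (f 0))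
  obtain ⟨y, hy⟩ := PullStalk.Exact.stalk_surjective q x z
  obtain ⟨a, rfl⟩ := ((he.pullback π).stalkComb_bijective x hx).2 y
  have key : PullStalk.Exact.stalkLin q x (stalkComb _ (fun i => unitSec π E U (e i)) x hx a) =
      (∑ i, a i * P.presheaf.germ W x hxW (c i)) • z := by
    simp only [stalkComb, Fintype.linearCombination_apply, map_sum, map_smul, Finset.sum_smul, mul_smul]
    refine Finset.sum_congr rfl fun i _ => congrArg (a i • ·) ?_
    rw [PullStalk.Exact.stalkLin_germ, ← germM_smul, ← hc i]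
    exact (O1.presheaf.germ_res_apply _ x hxW _).symm
  rw [key] at hy
  have hb := hσ.stalkComb_bijective x hxW
  have := congrFun (hb.1 (a₁ := fun _ => ∑ i, a i * P.presheaf.germ W x hxW (c i)) (a₂ := fun _ => 1) (by
    simp only [stalkComb, Fintype.linearCombination_apply, Fin.sum_univ_one, one_smul]
    exact hy)) 0
  have hmem : (∑ i, a i * P.presheaf.germ W x hxW (c i)) ∈ IsLocalRing.maximalIdeal (P.presheaf.stalk x) :=
    Ideal.sum_mem _ fun i _ => Ideal.mul_mem_left _ _ (hnu i)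
  rw [this] at hmem
  exact hmem isUnit_one

end univ

end Groth.Agent.Desc44.ProjBundle
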