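import Groth.Agent.Desc44.ProjBundle.Chart
import Mathlib.Algebra.MvPolynomial.Equiv

/-! A standard chart of a projective bundle over an affine open is an affine space. -/

set_option autoImplicit false
set_option backward.isDefEq.respectTransparency false
set_option backward.isDefEq.respectTransparency.types false

universe u

open CategoryTheory CategoryTheory.Limits AlgebraicGeometry TopologicalSpace Opposite
open Groth.Agent.PullStalk.Sky Groth.Agent.LFFrame

noncomputable section

namespace Groth.Agent.Desc44.ProjBundle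

/-- a morphism to an affine scheme as a map on global sections -/
def G {T : Scheme.{u}} {R : CommRingCat.{u}} (k : T ⟶ Spec R) : R ⟶ Γ(T, ⊤) :=
  (Scheme.ΓSpecIso R).inv ≫ k.appTop

lemma G_ext {T : Scheme.{u}} {R : CommRingCat.{u}} {k₁ k₂ : T ⟶ Spec R} (h : G k₁ = G k₂) : k₁ = k₂ :=
  ext_of_isAffine ((cancel_epi (Scheme.ΓSpecIso R).inv).mp h)

lemma topIso_inv_eq {P : Scheme.{u}} (D : P.Opens) (e : (⊤ : D.toScheme.Opens) ≤ D.ι ⁻¹ᵁ D) :
    D.topIso.inv = D.ι.appLE D ⊤ e := by
  rw [Scheme.Opens.ι_appLE, Scheme.Opens.topIso_inv]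
  rfl

variable {X P : Scheme.{u}} (π : P ⟶ X) {E : X.Modules} {O1 : P.Modules}
  (q : (Scheme.Modules.pullback π).obj E ⟶ O1) {m : ℕ} {U : X.Opens}
  (e : Fin (m + 1) → Γ(E, U)) (k : Fin (m + 1))

/-- the coordinates of the standard chart -/
def vec {A : Type u} [CommRing A] {m : ℕ} (k i : Fin (m + 1)) : MvPolynomial (Fin m) A :=
  Fin.insertNth (α := fun _ => MvPolynomial (Fin m) A) k 1 MvPolynomial.X i

lemma vec_self {A : Type u} [CommRing A] {m : ℕ} (k : Fin (m + 1)) : vec (A := A) k k = 1 :=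
  Fin.insertNth_apply_same (α := fun _ => MvPolynomial (Fin m) A) k _ _

lemma vec_succAbove {A : Type u} [CommRing A] {m : ℕ} (k : Fin (m + 1)) (j : Fin m) :
    vec (A := A) k (k.succAbove j) = MvPolynomial.X j :=
  Fin.insertNth_apply_succAbove (α := fun _ => MvPolynomial (Fin m) A) k _ _ j

/-- coordinates as a ring map -/
def coordHom : CommRingCat.of (MvPolynomial (Fin m) Γ(X, U)) ⟶ Γ(P, D π q e k) :=
  CommRingCat.ofHom (MvPolynomial.eval₂Hom (π.appLE U (D π q e k) (D_le π q e k)).hom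
    fun j => coord π q e k (k.succAbove j))

lemma coordHom_C (a : Γ(X, U)) :
    coordHom π q e k (MvPolynomial.C a) = π.appLE U (D π q e k) (D_le π q e k) a :=
  MvPolynomial.eval₂Hom_C _ _ a

lemma coordHom_X (j : Fin m) : coordHom π q e k (MvPolynomial.X j) = coord π q e k (k.succAbove j) :=
  MvPolynomial.eval₂Hom_X' _ _ j

/-- the coordinate map -/
def coordMap : (D π q e k).toScheme ⟶ Spec (CommRingCat.of (MvPolynomial (Fin m) Γ(X, U))) :=
  (D π q e k).toSpecΓ ≫ Spec.map (coordHom π q e k)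

lemma G_coordMap : G (coordMap π q e k) = coordHom π q e k ≫ (D π q e k).topIso.inv := by
  rw [G, coordMap, Scheme.Hom.comp_appTop, ← Category.assoc, ← Scheme.ΓSpecIso_inv_naturality,
    Category.assoc, Scheme.Opens.toSpecΓ_appTop, Iso.inv_hom_id_assoc]

variable (hU : IsAffineOpen U)

/-- the chart over the base -/
def base : Spec (CommRingCat.of (MvPolynomial (Fin m) Γ(X, U))) ⟶ X :=
  Spec.map (CommRingCat.ofHom MvPolynomial.C) ≫ hU.fromSpec

lemma coordMap_base : coordMap π q e k ≫ base hU = (D π q e k).ι ≫ π := by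
  have h : CommRingCat.ofHom MvPolynomial.C ≫ coordHom π q e k = π.appLE U (D π q e k) (D_le π q e k) := by
    ext a
    exact coordHom_C π q e k a
  rw [coordMap, base, Category.assoc, ← Category.assoc (Spec.map _), ← Spec.map_comp, h,
    Scheme.Opens.toSpecΓ_SpecMap_appLE_assoc, hU.toSpecΓ_fromSpec, Scheme.Hom.resLE_comp_ι]

lemma base_preimage : (base (m := m) hU) ⁻¹ᵁ U = ⊤ := by
  rw [base, Scheme.Hom.comp_preimage, hU.fromSpec_preimage_self]
  rfl

lemma base_appLE :
    (base (m := m) hU).appLE U ⊤ (base_preimage hU).ge =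
      CommRingCat.ofHom MvPolynomial.C ≫ (Scheme.ΓSpecIso (CommRingCat.of (MvPolynomial (Fin m) Γ(X, U)))).inv := by
  have e₁ : (⊤ : (Spec Γ(X, U)).Opens) ≤ hU.fromSpec ⁻¹ᵁ U := hU.fromSpec_preimage_self.ge
  have h1 : hU.fromSpec.appLE U ⊤ e₁ = (Scheme.ΓSpecIso Γ(X, U)).inv := by
    rw [Scheme.Hom.appLE, hU.fromSpec_app_self, Category.assoc, ← Functor.map_comp]
    convert Category.comp_id _ using 2
    exact (Spec Γ(X, U)).presheaf.map_id _
  have h2 : (base (m := m) hU).appLE U ⊤ (base_preimage hU).ge =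
      hU.fromSpec.appLE U ⊤ e₁ ≫ (Spec.map (CommRingCat.ofHom MvPolynomial.C)).appTop := by
    rw [Scheme.Hom.appTop, ← Scheme.Hom.appLE_eq_app, Scheme.Hom.appLE_comp_appLE]
    rfl
  rw [h2, h1, Scheme.ΓSpecIso_inv_naturality]
  rfl

variable (hP : KRR.IsProjBundle π E O1 q) (he : IsFrame E U e)
include hU hP he

/-- the chart is an affine space over `U` -/
theorem isIso_coordMap : IsIso (coordMap π q e k) := by
  let R := CommRingCat.of (MvPolynomial (Fin m) Γ(X, U))
  let g := base (m := m) hU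
  have hg : g ⁻¹ᵁ U = ⊤ := base_preimage hU
  let x : Fin (m + 1) → Γ(Spec R, g ⁻¹ᵁ U) := fun i =>
    (Spec R).presheaf.map (homOfLE (le_top : g ⁻¹ᵁ U ≤ ⊤)).op
      ((Scheme.ΓSpecIso R).inv (vec k i))
  obtain ⟨ψ, hψπ, hψD, hψc⟩ := exists_hom_coord π q e k hP he g (fun t => hg.ge trivial) x (by
    simp only [x, vec_self, map_one])
  have hD : (⊤ : (Spec R).Opens) ≤ ψ ⁻¹ᵁ D π q e k := hg.ge.trans hψD
  have hr : Set.range ψ ⊆ Set.range (D π q e k).ι := by
    rintro _ ⟨t, rfl⟩
    rw [Scheme.Opens.range_ι]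
    exact hD trivial
  let ψ' := IsOpenImmersion.lift (D π q e k).ι ψ hr
  have hψ' : ψ' ≫ (D π q e k).ι = ψ := IsOpenImmersion.lift_fac _ _ _
  have hψc' : ∀ i, ψ.appLE (D π q e k) ⊤ hD (coord π q e k i) =
      (Scheme.ΓSpecIso R).inv (vec k i) := by
    intro i
    have := congrArg ((Spec R).presheaf.map (homOfLE hg.ge).op) (hψc i)
    simp only [x] at this
    rw [← ConcreteCategory.comp_apply, ← ConcreteCategory.comp_apply, Scheme.Hom.appLE_map,
      ← Functor.map_comp] at this
    refine this.trans ?_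
    exact congrArg (fun φ : Γ(Spec R, ⊤) ⟶ Γ(Spec R, ⊤) => φ ((Scheme.ΓSpecIso R).inv (vec k i)))
      ((Spec R).presheaf.map_id (op ⊤))
  have hhom : coordHom π q e k ≫ ψ.appLE (D π q e k) ⊤ hD = (Scheme.ΓSpecIso R).inv := by
    apply CommRingCat.hom_ext
    apply MvPolynomial.ringHom_ext
    · intro a
      show ψ.appLE (D π q e k) ⊤ hD (coordHom π q e k (MvPolynomial.C a)) = _
      rw [coordHom_C, ← ConcreteCategory.comp_apply, Scheme.Hom.appLE_comp_appLE]
      have : (ψ ≫ π).appLE U ⊤ (le_trans hD (ψ.preimage_mono (D_le π q e k))) =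
          g.appLE U ⊤ hg.ge := by simp only [hψπ]
      rw [this, base_appLE]
      rfl
    · intro j
      show ψ.appLE (D π q e k) ⊤ hD (coordHom π q e k (MvPolynomial.X j)) = _
      rw [coordHom_X, hψc', vec_succAbove]
  have h₁ : ψ' ≫ coordMap π q e k = 𝟙 _ := by
    apply G_ext
    have : G (ψ' ≫ coordMap π q e k) = G (coordMap π q e k) ≫ ψ'.appTop := by
      rw [G, G, Scheme.Hom.comp_appTop, Category.assoc]
    rw [this, G_coordMap, Category.assoc, topIso_inv_eq _ (by simp), Scheme.Hom.appTop,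
      ← Scheme.Hom.appLE_eq_app, Scheme.Hom.appLE_comp_appLE]
    have h' : ∀ e', (ψ' ≫ (D π q e k).ι).appLE (D π q e k) (ψ' ⁻¹ᵁ ⊤) e' = ψ.appLE (D π q e k) ⊤ hD := by
      rw [hψ']; intro; rfl
    rw [h', hhom]
    simp [G]
    rfl
  have h₂ : coordMap π q e k ≫ ψ = (D π q e k).ι := by
    refine hom_ext_coord π q e k hP he (W := ⊤) ?_ (fun _ => trivial) (fun t _ => hD trivial)
      (fun t _ => t.2) fun i => ?_
    · rw [Category.assoc, hψπ, coordMap_base]
    · rw [← Scheme.Hom.appLE_comp_appLE (coordMap π q e k) ψ (D π q e k) ⊤ ⊤ hD le_rfl,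
        ConcreteCategory.comp_apply, hψc', ← topIso_inv_eq]
      have : ∀ r, (coordMap π q e k).appLE ⊤ ⊤ le_rfl ((Scheme.ΓSpecIso R).inv r) =
          (D π q e k).topIso.inv (coordHom π q e k r) := fun r => by
        rw [← ConcreteCategory.comp_apply, ← ConcreteCategory.comp_apply, ← G_coordMap, G,
          Scheme.Hom.appTop, ← Scheme.Hom.appLE_eq_app]
        rfl
      rw [this]
      congr 1
      rcases Fin.eq_self_or_eq_succAbove k i with rfl | ⟨j, rfl⟩
      · rw [vec_self, map_one, coord_self]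
      · rw [vec_succAbove, coordHom_X]
  refine ⟨ψ', ?_, h₁⟩
  rw [← cancel_mono (D π q e k).ι, Category.assoc, hψ', h₂, Category.id_comp]

theorem isAffineOpen_D : IsAffineOpen (D π q e k) := by
  haveI := isIso_coordMap π q e k hU hP he
  exact IsAffine.of_isIso (coordMap π q e k)

theorem coordHom_bijective : Function.Bijective (coordHom π q e k) := by
  haveI := isIso_coordMap π q e k hU hP he
  have hb : Function.Bijective (G (coordMap π q e k)) :=
    ConcreteCategory.bijective_of_isIso ((Scheme.ΓSpecIso _).inv ≫ (coordMap π q e k).appTop)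
  rw [G_coordMap] at hb
  have h2 := ConcreteCategory.bijective_of_isIso (D π q e k).topIso.inv
  exact (Function.Bijective.of_comp_iff' h2 _).1 hb

end Groth.Agent.Desc44.ProjBundle
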