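import Groth.Agent.LFFrame.Basic
import Groth.Agent.AssSch.Stalk
import Mathlib.RingTheory.Localization.Module

/-!
# Frames, maps out of framed modules, the open set where a section generates an invertible module
-/

set_option autoImplicit false
set_option backward.isDefEq.respectTransparency false
set_option backward.isDefEq.respectTransparency.types false

universe u

open CategoryTheory CategoryTheory.Limits AlgebraicGeometry TopologicalSpace Opposite
open Groth.Agent.PullStalk.Sky Groth.Agent.LFFrame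

noncomputable section

namespace Groth.Agent.Desc44.ProjBundle

variable {X Y : Scheme.{u}} {M N L : X.Modules}

/-- restriction of sections -/
abbrev rs (M : X.Modules) {U W : X.Opens} (h : W ≤ U) (m : Γ(M, U)) : Γ(M, W) :=
  M.presheaf.map (homOfLE h).op m

lemma isFrame_restrict {U : X.Opens} {n : ℕ} {e : Fin n → Γ(M, U)} (he : IsFrame M U e) {W : X.Opens}
    (h : W ≤ U) : IsFrame M W (fun i => rs M h (e i)) := by
  intro V hV
  convert he V (hV.trans h) using 1
  funext a
  simp only [comb, rs, res_res]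

/-- a basis of sections on an affine open is a frame -/
theorem isFrame_of_basis [M.IsQuasicoherent] {V : X.Opens} (hV : IsAffineOpen V) {n : ℕ}
    (b : Module.Basis (Fin n) Γ(X, V) Γ(M, V)) : IsFrame M V b := by
  refine isFrame_of_stalkComb_bijective fun x hx => ?_
  let _ : Algebra Γ(X, V) (X.presheaf.stalk x) := (X.presheaf.germ V x hx).hom.toAlgebra
  let _ : Module Γ(X, V) (M.presheaf.stalk x) := Module.compHom _ (X.presheaf.germ V x hx).hom
  have : IsScalarTower Γ(X, V) (X.presheaf.stalk x) (M.presheaf.stalk x) :=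
    IsScalarTower.of_algebraMap_smul fun _ _ => rfl
  have := AssSch.Stalk.isLocalizedModule_germLinear M hV x hx
  have : IsLocalization (AssSch.Stalk.primeOf hV x hx).primeCompl (X.presheaf.stalk x) :=
    hV.isLocalization_stalk ⟨x, hx⟩
  let b' := b.ofIsLocalizedModule (X.presheaf.stalk x) (AssSch.Stalk.primeOf hV x hx).primeCompl
    (AssSch.Stalk.germLinear M x hx)
  have : stalkComb M (fun i => b i) x hx = b'.equivFun.symm.toLinearMap := by
    apply LinearMap.ext
    intro a
    simp only [stalkComb, Fintype.linearCombination_apply, LinearEquiv.coe_coe,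
      Module.Basis.equivFun_symm_apply]
    refine Finset.sum_congr rfl fun i _ => ?_
    rw [Module.Basis.ofIsLocalizedModule_apply]
    rfl
  show Function.Bijective (stalkComb M (fun i => b i) x hx)
  rw [this]
  exact b'.equivFun.symm.bijective

/-- two maps agreeing on a frame of everything are equal -/
theorem hom_ext_of_frame {U : X.Opens} (hU : ∀ x, x ∈ U) {n : ℕ} {e : Fin n → Γ(M, U)}
    (he : IsFrame M U e) {φ ψ : M ⟶ N} (h : ∀ i, φ.app U (e i) = ψ.app U (e i)) : φ = ψ := by
  refine Scheme.Modules.hom_ext _ _ fun V => ?_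
  ext m
  obtain ⟨a, rfl⟩ := (he V fun x _ => hU x).2 m
  simp only [comb, map_sum]
  refine Finset.sum_congr rfl fun i _ => ?_
  refine (Scheme.Modules.Hom.app_smul φ _ _).trans ((congrArg (_ • ·) ?_).trans
    (Scheme.Modules.Hom.app_smul ψ _ _).symm)
  exact (NatTrans.naturality_apply φ.mapPresheaf (homOfLE _).op (e i)).trans
    ((congrArg _ (h i)).trans (NatTrans.naturality_apply ψ.mapPresheaf (homOfLE _).op (e i)).symm)

/-- a map with prescribed values on a frame of everything -/
theorem exists_hom_of_frame {U : X.Opens} (hU : ∀ x, x ∈ U) {n : ℕ} {e : Fin n → Γ(M, U)}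
    (he : IsFrame M U e) (σ : Fin n → Γ(N, U)) : ∃ φ : M ⟶ N, ∀ i, φ.app U (e i) = σ i := by
  have hle : ∀ V : X.Opens, V ≤ U := fun V x _ => hU x
  let co : ∀ V : X.Opens, (Fin n → Γ(X, V)) ≃ Γ(M, V) := fun V => Equiv.ofBijective _ (he V (hle V))
  let F : ∀ V : X.Opens, Γ(M, V) → Γ(N, V) := fun V m => comb N σ (hle V) ((co V).symm m)
  have co_add : ∀ V (m m' : Γ(M, V)), (co V).symm (m + m') = (co V).symm m + (co V).symm m' := by
    intro V m m'
    apply (co V).injective
    rw [Equiv.apply_symm_apply]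
    show _ = comb M e (hle V) _
    simp only [comb, Pi.add_apply, add_smul, Finset.sum_add_distrib]
    exact (congrArg₂ (· + ·) ((co V).apply_symm_apply m) ((co V).apply_symm_apply m')).symm
  have co_smul : ∀ V (r : Γ(X, V)) (m : Γ(M, V)), (co V).symm (r • m) = r • (co V).symm m := by
    intro V r m
    apply (co V).injective
    rw [Equiv.apply_symm_apply]
    show _ = comb M e (hle V) _
    simp only [comb, Pi.smul_apply, smul_eq_mul, mul_smul, ← Finset.smul_sum]
    exact (congrArg (r • ·) ((co V).apply_symm_apply m)).symm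
  have co_res : ∀ {V W : X.Opens} (h : W ≤ V) (m : Γ(M, V)),
      (co W).symm (M.presheaf.map (homOfLE h).op m) =
        fun i => X.presheaf.map (homOfLE h).op ((co V).symm m i) := by
    intro V W h m
    apply (co W).injective
    rw [Equiv.apply_symm_apply]
    show _ = comb M e (hle W) _
    rw [← res_comb M e (hle V) h]
    exact congrArg _ ((co V).apply_symm_apply m).symm
  let φ : M ⟶ N := ⟨PresheafOfModules.homMk
    { app := fun V => AddCommGrpCat.ofHom (AddMonoidHom.mk' (F V.unop) fun m m' => by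
        simp only [F, comb]
        rw [co_add]
        simp only [Pi.add_apply, add_smul, Finset.sum_add_distrib])
      naturality := fun V W i => by
        ext m
        show F W.unop (M.presheaf.map i m) = N.presheaf.map i (F V.unop m)
        have hi : i = (homOfLE i.unop.le).op := rfl
        rw [hi]
        simp only [F]
        rw [res_comb, co_res] }
    (fun V (r : Γ(X, V.unop)) (m : Γ(M, V.unop)) => by
      show F V.unop (r • m) = r • F V.unop m
      simp only [F, comb]
      rw [co_smul]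
      simp only [Pi.smul_apply, smul_eq_mul, mul_smul, ← Finset.smul_sum])⟩
  refine ⟨φ, fun i => ?_⟩
  show F U (e i) = σ i
  have : (co U).symm (e i) = Pi.single i 1 := by
    apply (co U).injective
    rw [Equiv.apply_symm_apply]
    show _ = comb M e _ _
    simp [comb, Pi.single_apply, ite_smul]
  simp [F, this, comb, Pi.single_apply, ite_smul]

/-- two modules with frames are isomorphic -/
theorem exists_iso_of_frames {U : X.Opens} (hU : ∀ x, x ∈ U) {n : ℕ} {e : Fin n → Γ(M, U)}
    (he : IsFrame M U e) {f : Fin n → Γ(N, U)} (hf : IsFrame N U f) :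
    ∃ φ : M ≅ N, ∀ i, φ.hom.app U (e i) = f i := by
  obtain ⟨φ, hφ⟩ := exists_hom_of_frame hU he f
  obtain ⟨ψ, hψ⟩ := exists_hom_of_frame hU hf e
  refine ⟨⟨φ, ψ, hom_ext_of_frame hU he fun i => ?_, hom_ext_of_frame hU hf fun i => ?_⟩, hφ⟩
  · show ψ.app U (φ.app U (e i)) = e i
    rw [hφ, hψ]
  · show φ.app U (ψ.app U (f i)) = f i
    rw [hψ, hφ]

/-- a map whose values contain a generator is an epimorphism -/
theorem epi_of_value {U : X.Opens} (hU : ∀ x, x ∈ U) {f : Fin 1 → Γ(N, U)} (hf : IsFrame N U f)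
    (φ : M ⟶ N) {m : Γ(M, U)} (hm : φ.app U m = f 0) : Epi φ := by
  obtain ⟨ψ, hψ⟩ := exists_hom_of_frame hU hf (fun _ => m)
  have : ψ ≫ φ = 𝟙 N := hom_ext_of_frame hU hf fun i => by
    show φ.app U (ψ.app U (f i)) = f i
    rw [hψ, hm, Subsingleton.elim i 0]
  exact SplitEpi.epi ⟨ψ, this⟩

lemma isFrame_iso {U : X.Opens} {n : ℕ} {e : Fin n → Γ(M, U)} (he : IsFrame M U e) (φ : M ≅ N) :
    IsFrame N U (fun i => φ.hom.app U (e i)) := by
  intro V h
  have key : comb N (fun i => φ.hom.app U (e i)) h = φ.hom.app V ∘ comb M e h := by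
    funext a
    simp only [comb, Function.comp_apply, map_sum]
    refine Finset.sum_congr rfl fun i _ => ?_
    refine Eq.trans ?_ (Scheme.Modules.Hom.app_smul φ.hom _ _).symm
    congr 1
    exact (NatTrans.naturality_apply φ.hom.mapPresheaf (homOfLE h).op (e i)).symm
  rw [key]
  refine Function.Bijective.comp ?_ (he V h)
  haveI : IsIso φ.hom := inferInstance
  exact ConcreteCategory.bijective_of_isIso
    (((Scheme.Modules.toPresheaf X).map φ.hom).app (op V))

/-- one-element frames: coordinates -/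
lemma exists_coord {U : X.Opens} {τ : Γ(M, U)} (hτ : IsFrame M U (fun _ : Fin 1 => τ)) (m : Γ(M, U)) :
    ∃! c : Γ(X, U), m = c • τ := by
  obtain ⟨a, ha⟩ := (hτ U le_rfl).2 m
  have hid : rs M (le_refl U) τ = τ := by simp [rs]
  have hc : ∀ a : Fin 1 → Γ(X, U), comb M (fun _ : Fin 1 => τ) le_rfl a = a 0 • τ := fun a => by
    simp only [comb, Fin.sum_univ_one]
    exact congrArg (a 0 • ·) hid
  refine ⟨a 0, (ha.symm.trans (hc a)), fun c hc' => ?_⟩
  have := (hτ U le_rfl).1 ((ha.trans hc').trans (hc fun _ => c).symm)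
  exact (congrFun this 0).symm

lemma stalk_generates_of_isFrame {U : X.Opens} {τ : Γ(M, U)} (hτ : IsFrame M U (fun _ : Fin 1 => τ))
    (x : X) (hx : x ∈ U) (t : M.presheaf.stalk x) :
    ∃ r : X.presheaf.stalk x, t = r • germM M U x hx τ := by
  obtain ⟨a, ha⟩ := (hτ.stalkComb_bijective x hx).2 t
  exact ⟨a 0, ha.symm.trans (by simp [stalkComb, Fintype.linearCombination_apply])⟩

/-- where a section generates an invertible module -/
def genLocus (M : X.Modules) {U : X.Opens} (τ : Γ(M, U)) : X.Opens :=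
  sSup {W | ∃ h : W ≤ U, IsFrame M W (fun _ : Fin 1 => rs M h τ)}

lemma genLocus_le {U : X.Opens} (τ : Γ(M, U)) : genLocus M τ ≤ U := sSup_le fun _ hW => hW.1

lemma isFrame_genLocus {U : X.Opens} (τ : Γ(M, U)) :
    IsFrame M (genLocus M τ) (fun _ : Fin 1 => rs M (genLocus_le τ) τ) := by
  refine isFrame_of_stalkComb_bijective fun x hx => ?_
  obtain ⟨W, ⟨hWU, hW⟩, hxW⟩ := TopologicalSpace.Opens.mem_sSup.1 hx
  have := hW.stalkComb_bijective x hxW
  have e : stalkComb M (fun _ : Fin 1 => rs M (genLocus_le τ) τ) x hx =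
      stalkComb M (fun _ : Fin 1 => rs M hWU τ) x hxW := by
    unfold stalkComb
    congr 1
    funext i
    exact (M.presheaf.germ_res_apply (homOfLE (genLocus_le τ)) x hx τ).trans
      (M.presheaf.germ_res_apply (homOfLE hWU) x hxW τ).symm
  rw [e]
  exact this

lemma mem_genLocus {U : X.Opens} {τ : Γ(M, U)} {W : X.Opens} (h : W ≤ U)
    (hW : IsFrame M W (fun _ : Fin 1 => rs M h τ)) {x : X} (hx : x ∈ W) : x ∈ genLocus M τ :=
  TopologicalSpace.Opens.mem_sSup.2 ⟨W, ⟨h, hW⟩, hx⟩

/-- scaling a frame by a unit at a point -/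
lemma mem_genLocus_of_unit {U : X.Opens} {τ : Γ(M, U)} {W : X.Opens} (h : W ≤ U) {σ : Γ(M, W)}
    (hσ : IsFrame M W (fun _ : Fin 1 => σ)) {c : Γ(X, W)} (hc : rs M h τ = c • σ) {x : X} (hx : x ∈ W)
    (hu : IsUnit (X.presheaf.germ W x hx c)) : x ∈ genLocus M τ := by
  have hxb : x ∈ X.basicOpen c := (X.mem_basicOpen c x hx).2 hu
  refine mem_genLocus ((X.basicOpen_le c).trans h) (isFrame_of_stalkComb_bijective fun y hy => ?_) hxb
  have hy' : y ∈ W := X.basicOpen_le c hy
  obtain ⟨uy, huy⟩ := (X.mem_basicOpen c y hy').1 hy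
  have hb := hσ.stalkComb_bijective y hy'
  have key : ∀ a : Fin 1 → X.presheaf.stalk y,
      stalkComb M (fun _ : Fin 1 => rs M ((X.basicOpen_le c).trans h) τ) y hy a =
        stalkComb M (fun _ : Fin 1 => σ) y hy' ((uy : X.presheaf.stalk y) • a) := by
    intro a
    simp only [stalkComb, Fintype.linearCombination_apply, Fin.sum_univ_one, Pi.smul_apply, smul_eq_mul]
    have e : germM M (X.basicOpen c) y hy (rs M ((X.basicOpen_le c).trans h) τ) =
        germM M W y hy' (rs M h τ) :=
      (M.presheaf.germ_res_apply _ y hy τ).trans (M.presheaf.germ_res_apply _ y hy' τ).symm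
    rw [e, hc, germM_smul, huy, smul_smul, mul_comm]
  have : ⇑(stalkComb M (fun _ : Fin 1 => rs M ((X.basicOpen_le c).trans h) τ) y hy) =
      ⇑(stalkComb M (fun _ : Fin 1 => σ) y hy') ∘ fun a => (uy : X.presheaf.stalk y) • a := funext key
  show Function.Bijective (stalkComb M (fun _ : Fin 1 => rs M ((X.basicOpen_le c).trans h) τ) y hy)
  rw [this]
  exact hb.comp (MulAction.bijective uy)

/-- detection after pulling back -/
theorem map_mem_genLocus (h : Y ⟶ X) (hM : PicF.IsInvertible M) {U : X.Opens} {τ : Γ(M, U)}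
    {W : Y.Opens} (hW : W ≤ h ⁻¹ᵁ U)
    (hf : IsFrame ((Scheme.Modules.pullback h).obj M) W
      (fun _ : Fin 1 => rs _ hW (unitSec h M U τ))) {y : Y} (hy : y ∈ W) : h y ∈ genLocus M τ := by
  obtain ⟨U₀, n, e, hxU₀, he⟩ := exists_isFrame_of_isInvertible hM (h y)
  have hn : n = 1 := by
    have h1 := (he.pullback h).stalkComb_bijective y hxU₀
    have h2 := hf.stalkComb_bijective y hy
    have := ((LinearEquiv.ofBijective _ h1).trans (LinearEquiv.ofBijective _ h2).symm).finrank_eq
    simpa using this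
  subst hn
  have hle : U ⊓ U₀ ≤ U₀ := inf_le_right
  have he' : IsFrame M (U ⊓ U₀) (fun _ : Fin 1 => rs M hle (e 0)) := by
    have := isFrame_restrict he hle
    convert this using 2 with i
    rw [Subsingleton.elim i 0]
  have hxI : h y ∈ U ⊓ U₀ := ⟨hW hy, hxU₀⟩
  obtain ⟨c, hc, -⟩ := exists_coord he' (rs M inf_le_left τ)
  refine mem_genLocus_of_unit inf_le_left he' hc hxI ?_
  refine (isUnit_map_iff (h.stalkMap y).hom _).1 ?_
  rw [Scheme.Hom.germ_stalkMap_apply]
  obtain ⟨r, hr⟩ := stalk_generates_of_isFrame hf y hy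
    (germM _ (h ⁻¹ᵁ (U ⊓ U₀)) y hxI (unitSec h M (U ⊓ U₀) (rs M hle (e 0))))
  have e1 : germM _ W y hy (rs _ hW (unitSec h M U τ)) =
      germM _ (h ⁻¹ᵁ (U ⊓ U₀)) y hxI (unitSec h M (U ⊓ U₀) (rs M inf_le_left τ)) := by
    rw [rs, unitSec_res h M inf_le_left τ]
    exact (((Scheme.Modules.pullback h).obj M).presheaf.germ_res_apply _ y hy _).trans
      (((Scheme.Modules.pullback h).obj M).presheaf.germ_res_apply _ y hxI _).symm
  rw [e1, hc, unitSec_smul, germM_smul, smul_smul] at hr
  have hb := (he'.pullback h).stalkComb_bijective y hxI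
  have := hb.1 (a₁ := fun _ => (1 : Y.presheaf.stalk y))
    (a₂ := fun _ => r * Y.presheaf.germ _ y hxI (h.app _ c)) (by
      simp only [stalkComb, Fintype.linearCombination_apply, Fin.sum_univ_one, one_smul]
      exact hr)
  exact IsUnit.of_mul_eq_one r ((mul_comm _ _).trans (congrFun this 0).symm)

/-- pulling back a generator -/
theorem isFrame_pullback_genLocus (h : Y ⟶ X) {U : X.Opens} (τ : Γ(M, U)) {W : Y.Opens}
    (hW : W ≤ h ⁻¹ᵁ genLocus M τ) :
    IsFrame ((Scheme.Modules.pullback h).obj M) W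
      (fun _ : Fin 1 => rs _ (hW.trans (h.preimage_mono (genLocus_le τ))) (unitSec h M U τ)) := by
  have := isFrame_restrict ((isFrame_genLocus τ).pullback h) hW
  convert this using 2 with i
  rw [rs, rs, unitSec_res h M (genLocus_le τ) τ, res_res]

end Groth.Agent.Desc44.ProjBundle
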