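import Groth.Agent.Desc44.ProjBundle.Blow

/-! Blow-up of a Koszul-regular centre embeds Koszul-regularly in the projective bundle. -/

set_option autoImplicit false
set_option backward.isDefEq.respectTransparency false
set_option backward.isDefEq.respectTransparency.types false

universe u

open CategoryTheory CategoryTheory.Limits AlgebraicGeometry TopologicalSpace Opposite
open Groth.Agent.PullStalk.Sky Groth.Agent.LFFrame

noncomputable section

namespace Groth.Agent.Desc44.ProjBundle

/-- the fibre of a projective bundle over an open where the module vanishes is empty -/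
theorem not_mem_of_frame_zero {X P : Scheme.{u}} (π : P ⟶ X) {E : X.Modules} {O1 : P.Modules}
    (q : (Scheme.Modules.pullback π).obj E ⟶ O1) (hP : KRR.IsProjBundle π E O1 q) {U : X.Opens}
    {e : Fin 0 → Γ(E, U)} (he : IsFrame E U e) (x : P) : π x ∉ U := by
  intro hx
  haveI := hP.epi
  obtain ⟨U₀, r, f, hxU₀, hf⟩ := exists_isFrame_of_isInvertible (isInvertible_of_rank_one hP.invertible) x
  obtain ⟨U₁, hx₁, ⟨φ⟩⟩ := isInvertible_of_rank_one hP.invertible x
  obtain ⟨g, hg⟩ := exists_isFrame_of_split (M := O1) (fun _ : Fin 1 => φ.inv) (fun _ => φ.hom)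
    (fun i j => by simp [Subsingleton.elim i j]) (by simp)
  have hb := hg.stalkComb_bijective x hx₁
  obtain ⟨y, hy⟩ := PullStalk.Exact.stalk_surjective q x (stalkComb O1 g x hx₁ (fun _ => 1))
  obtain ⟨a, rfl⟩ := ((he.pullback π).stalkComb_bijective x hx).2 y
  have h0 : stalkComb _ (fun i => unitSec π E U (e i)) x hx a = 0 := by
    simp [stalkComb, Fintype.linearCombination_apply]
  rw [h0, map_zero, ← map_zero (stalkComb O1 g x hx₁)] at hy
  exact one_ne_zero (congrFun (hb.1 hy) 0).symm

theorem exists_frame_of_rank {X : Scheme.{u}} {M : X.Modules} {c : ℕ}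
    (h : FlatMod.IsFinLocFreeOfRank c M) (x : X) :
    ∃ (U : X.Opens) (e : Fin c → Γ(M, U)), x ∈ U ∧ IsFrame M U e := by
  classical
  obtain ⟨U, hx, ⟨φ⟩⟩ := h x
  let p : Fin c → (FlatMod.freeMod (U : Scheme.{u}) c ⟶ Coh.structureModule (U : Scheme.{u})) :=
    fun j => Sigma.desc fun i => if i = j then 𝟙 _ else 0
  obtain ⟨e, he⟩ := exists_isFrame_of_split (M := M)
    (fun i => Sigma.ι (fun _ : Fin c => Coh.structureModule (U : Scheme.{u})) i ≫ φ.inv)
    (fun j => φ.hom ≫ p j) (fun i j => by simp [p]) (by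
      rw [← cancel_epi φ.inv, ← cancel_mono φ.hom]
      apply Sigma.hom_ext
      intro j
      simp [p, Preadditive.comp_sum, Preadditive.sum_comp, Finset.sum_ite_eq', ite_comp])
  exact ⟨U, e, hx, he⟩

theorem rank_unique {X : Scheme.{u}} {M : X.Modules} {U V : X.Opens} {n c : ℕ}
    {e : Fin n → Γ(M, U)} {g : Fin c → Γ(M, V)} (he : IsFrame M U e) (hg : IsFrame M V g) {x : X}
    (hxU : x ∈ U) (hxV : x ∈ V) : n = c := by
  have h1 := he.stalkComb_bijective x hxU
  have h2 := hg.stalkComb_bijective x hxV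
  simpa using ((LinearEquiv.ofBijective _ h1).trans (LinearEquiv.ofBijective _ h2).symm).finrank_eq

theorem main {X X' P : Scheme.{u}}
    (E : X.Modules) (hE : FlatMod.IsFinLocFree E) (u : E ⟶ Coh.structureModule X)
    (hu : ∀ x : X, ∃ U : X.affineOpens, x ∈ U.1 ∧
      ∃ (n : ℕ) (b : Module.Basis (Fin n) Γ(X, U.1) (E.val.obj (op U.1))),
        LCI.IsKoszulRegularSeq Γ(X, U.1) (List.ofFn fun k => ((u.val.app (op U.1)).hom (b k) : Γ(X, U.1))))
    (J : X.IdealSheafData) (hJ : ∀ U : X.affineOpens, J.ideal U = @Ideal.span Γ(X, U.1) _ (Set.range fun s : E.val.obj (op U.1) => ((u.val.app (op U.1)).hom s : Γ(X, U.1))))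
    (π : P ⟶ X) (O1 : P.Modules) (q : (Scheme.Modules.pullback π).obj E ⟶ O1) (hP : KRR.IsProjBundle π E O1 q)
    (f : X' ⟶ X) (hf : _root_.BlowUp.IsBlowUp f J)
    (j : X' ⟶ P) (hjπ : j ≫ π = f)
    (e : (Scheme.Modules.pullback j).obj O1 ≅ ClSub.idealMod (_root_.BlowUp.exceptional f J))
    (hcomp : (Scheme.Modules.pullbackCongr hjπ).inv.app E ≫ (Scheme.Modules.pullbackComp j π).inv.app E ≫
        (Scheme.Modules.pullback j).map q ≫ e.hom ≫ ClSub.idealModι (_root_.BlowUp.exceptional f J) =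
      (Scheme.Modules.pullback f).map u ≫
        ((Scheme.Modules.pullbackPushforwardAdjunction f).homEquiv _ _).symm
          (SheafOfModules.unitToPushforwardObjUnit f.toRingCatSheafHom)) :
    IsClosedImmersion j ∧ RegImm.IsRegularImmersion .koszul j ∧
      ∀ c : ℕ, FlatMod.IsFinLocFreeOfRank c E → RegImm.IsRegularImmersionOfCodim .koszul (c - 1) j := by
  haveI : E.IsQuasicoherent := PerfTri.Betti.isQuasicoherent_of_isFinLocFree hE
  have hcomp' : quot π q hjπ ≫ e.hom ≫ ClSub.idealModι (_root_.BlowUp.exceptional f J) =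
      (Scheme.Modules.pullback f).map u ≫
        ((Scheme.Modules.pullbackPushforwardAdjunction f).homEquiv _ _).symm
          (SheafOfModules.unitToPushforwardObjUnit f.toRingCatSheafHom) := by
    simpa only [quot, Category.assoc] using hcomp
  have loc : ∀ p : P, ∃ W : P.Opens, p ∈ W ∧ IsAffineOpen W ∧ IsClosedImmersion (j ∣_ W) ∧
      ∃ l : List Γ(P, W), LCI.IsKoszulRegularSeq Γ(P, W) l ∧ RingHom.ker (j.app W).hom = Ideal.ofList l ∧
        ∀ c : ℕ, FlatMod.IsFinLocFreeOfRank c E → l.length = c - 1 := by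
    intro p
    obtain ⟨U, hxU, n, b, hb⟩ := hu (π p)
    have he : IsFrame E U.1 b := isFrame_of_basis U.2 b
    match n, b, hb, he with
    | 0, b, _, he => exact absurd hxU (not_mem_of_frame_zero π q hP he p)
    | m + 1, b, hb, he =>
      have hJ' : J.ideal ⟨U.1, U.2⟩ = Ideal.ofList (List.ofFn (gen u (fun i => b i))) := by
        refine (hJ U).trans (le_antisymm (Ideal.span_le.2 ?_) (Ideal.span_le.2 ?_))
        · rintro _ ⟨s, rfl⟩
          show u.app U.1 s ∈ _
          have hs : u.app U.1 s = ∑ i, b.repr s i • u.app U.1 (b i) := by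
            conv_lhs => rw [← b.sum_repr s]
            rw [map_sum]
            exact Finset.sum_congr rfl fun i _ => Scheme.Modules.Hom.app_smul u _ _
          rw [hs]
          exact Ideal.sum_mem _ fun i _ => Ideal.mul_mem_left _ _ (gen_mem u (fun i => b i) i)
        · intro z hz
          obtain ⟨i, rfl⟩ := List.mem_ofFn.1 hz
          exact Ideal.subset_span ⟨b i, rfl⟩
      obtain ⟨k, hk⟩ := exists_mem_D π q (fun i => b i) hP he hxU
      obtain ⟨hW, hcl, l, ⟨-, hlen⟩, hl, hker⟩ := local_closedImmersion_koszul u π q hjπ e.hom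
        (ClSub.idealModι (_root_.BlowUp.exceptional f J)) (fun i => b i) hP U.2 he hb hJ' hf hcomp' k
      refine ⟨_, hk, hW, hcl, l, hl, hker, fun c hc => ?_⟩
      obtain ⟨V, g, hxV, hg⟩ := exists_frame_of_rank hc (π p)
      have := rank_unique he hg hxU hxV
      omega
  choose W hpW hW hcl l hl hker hlen using loc
  haveI hci : IsClosedImmersion j := by
    refine IsZariskiLocalAtTarget.of_iSup_eq_top (P := @IsClosedImmersion) W ?_ hcl
    exact top_le_iff.1 fun p _ => TopologicalSpace.Opens.mem_iSup.2 ⟨p, hpW p⟩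
  exact ⟨hci, ⟨inferInstance, fun z => ⟨⟨W (j z), hW _⟩, hpW _, hcl _, l _, hl _, hker _⟩⟩,
    fun c hc => ⟨inferInstance, fun z => ⟨⟨W (j z), hW _⟩, hpW _, hcl _, l _, hlen _ c hc, hl _, hker _⟩⟩⟩

end Groth.Agent.Desc44.ProjBundle
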