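import Groth.Agent.Desc44.ProjBundle.Iso
import Groth.Agent.BlowPerf.Global
import Groth.Agent.PerfTri.Betti
import Groth.Prelude.Def_RegImm
import Groth.Prelude.Def_ClSub2

/-! The embedding of a blow-up in a Koszul-regular centre into the projective bundle of the generators. -/

set_option autoImplicit false
set_option backward.isDefEq.respectTransparency false
set_option backward.isDefEq.respectTransparency.types false
set_option maxHeartbeats 800000

universe u

open CategoryTheory CategoryTheory.Limits AlgebraicGeometry TopologicalSpace Opposite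
open Groth.Agent.PullStalk.Sky Groth.Agent.LFFrame
open Groth.Agent.BlowUp (AffineChart.Chart AffineChart.toBase AffineChart.glob AffineChart.div)
open Groth.Agent.BlowUp

noncomputable section

namespace Groth.Agent.Desc44.ProjBundle

theorem homEquiv_symm_unitSec {X' X : Scheme.{u}} (f : X' ⟶ X) {M : X.Modules} {N : X'.Modules}
    (φ : M ⟶ (Scheme.Modules.pushforward f).obj N) (V : X.Opens) (m : Γ(M, V)) :
    (((Scheme.Modules.pullbackPushforwardAdjunction f).homEquiv _ _).symm φ).app (f ⁻¹ᵁ V) (unitSec f M V m) =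
      φ.app V m := by
  have h := (Adjunction.homEquiv_unit (Scheme.Modules.pullbackPushforwardAdjunction f) _ _
    (((Scheme.Modules.pullbackPushforwardAdjunction f).homEquiv _ _).symm φ)).symm
  rw [Equiv.apply_symm_apply] at h
  exact congr(Scheme.Modules.Hom.app $h V m)

theorem perm_ofFn {α : Type*} {m : ℕ} (a : Fin (m + 1) → α) (k : Fin (m + 1)) :
    (List.ofFn a).Perm (a k :: List.ofFn (fun j => a (k.succAbove j))) := by
  let σ : Equiv.Perm (Fin (m + 1)) := (finSuccEquiv m).trans (finSuccEquiv' k).symm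
  have h0 : σ 0 = k := by simp [σ]
  have hs : ∀ j : Fin m, σ j.succ = k.succAbove j := fun j => by simp [σ]
  refine (σ.ofFn_comp_perm a).symm.trans ?_
  rw [List.ofFn_succ]
  simp only [Function.comp_apply, h0, hs]
  exact List.Perm.refl _

variable {X X' P : Scheme.{u}} {E : X.Modules} (u₀ : E ⟶ Coh.structureModule X)
  {J : X.IdealSheafData} (π : P ⟶ X) {O1 : P.Modules} (q : (Scheme.Modules.pullback π).obj E ⟶ O1)
  {f : X' ⟶ X} {j : X' ⟶ P} (hjπ : j ≫ π = f) {K : X'.Modules}
  (φ : (Scheme.Modules.pullback j).obj O1 ⟶ K) (κ : K ⟶ Coh.structureModule X')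
  {U : X.Opens} {m : ℕ} (b : Fin (m + 1) → Γ(E, U))

/-- the generators of the centre -/
abbrev gen (i : Fin (m + 1)) : Γ(X, U) := u₀.app U (b i)

section relation

variable (hcomp : quot π q hjπ ≫ φ ≫ κ = (Scheme.Modules.pullback f).map u₀ ≫
  ((Scheme.Modules.pullbackPushforwardAdjunction f).homEquiv _ _).symm
    (SheafOfModules.unitToPushforwardObjUnit f.toRingCatSheafHom))
include hcomp

theorem gen_rel (k i : Fin (m + 1)) {W : X'.Opens} (hW : W ≤ j ⁻¹ᵁ D π q b k) (hWU : W ≤ f ⁻¹ᵁ U) :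
    f.appLE U W hWU (gen u₀ b i) =
      j.appLE (D π q b k) W hW (coord π q b k i) * f.appLE U W hWU (gen u₀ b k) := by
  have hle : f ⁻¹ᵁ U ≤ j ⁻¹ᵁ (π ⁻¹ᵁ U) := by subst hjπ; exact le_rfl
  have val : ∀ i, (φ ≫ κ).app W (rs _ (hW.trans (j.preimage_mono (D_le π q b k)))
      (unitSec j O1 _ (tau π q b i))) = (show Γ(Coh.structureModule X', W) from f.appLE U W hWU (gen u₀ b i)) := by
    intro i
    have h1 := congr(Scheme.Modules.Hom.app $hcomp (f ⁻¹ᵁ U) (unitSec f E U (b i)))
    have h2 : (φ ≫ κ).app (f ⁻¹ᵁ U) (rs _ hle (unitSec j O1 _ (tau π q b i))) =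
        (show Γ(Coh.structureModule X', f ⁻¹ᵁ U) from f.app U (gen u₀ b i)) := by
      rw [← quot_app π q b hjπ i hle]
      refine h1.trans ?_
      show ((((Scheme.Modules.pullbackPushforwardAdjunction f).homEquiv _ _).symm
        (SheafOfModules.unitToPushforwardObjUnit f.toRingCatSheafHom))).app (f ⁻¹ᵁ U)
          (((Scheme.Modules.pullback f).map u₀).app _ (unitSec f E U (b i))) = _
      erw [map_unitSec f u₀ U (b i)]
      exact homEquiv_symm_unitSec f (N := Coh.structureModule X')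
        (SheafOfModules.unitToPushforwardObjUnit f.toRingCatSheafHom) U (u₀.app U (b i))
    have h3 := congrArg (fun t => rs (Coh.structureModule X') hWU t) h2
    refine Eq.trans ?_ h3
    refine Eq.trans ?_ (NatTrans.naturality_apply (φ ≫ κ).mapPresheaf (homOfLE hWU).op _)
    simp only [rs]
    exact congrArg _ (res_res _ hle hWU _).symm
  have h := congrArg ((φ ≫ κ).app W) (unitSec_coord π q b k hW i)
  rw [Scheme.Modules.Hom.app_smul, val i, val k] at h
  exact h

end relation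

variable (hP : KRR.IsProjBundle π E O1 q) (hU : IsAffineOpen U) (he : IsFrame E U b)
  (hreg : LCI.IsKoszulRegularSeq Γ(X, U) (List.ofFn (gen u₀ b)))
  (hJ : J.ideal ⟨U, hU⟩ = Ideal.ofList (List.ofFn (gen u₀ b))) (hf : _root_.BlowUp.IsBlowUp f J)
  (hcomp : quot π q hjπ ≫ φ ≫ κ = (Scheme.Modules.pullback f).map u₀ ≫
    ((Scheme.Modules.pullbackPushforwardAdjunction f).homEquiv _ _).symm
      (SheafOfModules.unitToPushforwardObjUnit f.toRingCatSheafHom))

/-- the ideal of the centre on `U` -/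
abbrev I : Ideal Γ(X, U) := Ideal.ofList (List.ofFn (gen u₀ b))

lemma gen_mem (k : Fin (m + 1)) : gen u₀ b k ∈ I u₀ b :=
  Ideal.subset_span (List.mem_ofFn.2 ⟨k, rfl⟩)

include hJ in
lemma comap_fromSpec : J.comap hU.fromSpec = Existence.centre (I u₀ b) := by
  refine (BlowPerf.Global.eq_centre (J.comap hU.fromSpec)).trans (congrArg Existence.centre ?_)
  rw [IdealSh.Comap.ideal_comap J hU.fromSpec ⟨U, hU⟩ ⟨⊤, isAffineOpen_top _⟩ hU.fromSpec_preimage_self.ge, hJ]
  have h1 : hU.fromSpec.appLE U ⊤ hU.fromSpec_preimage_self.ge = (Scheme.ΓSpecIso Γ(X, U)).inv := by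
    rw [Scheme.Hom.appLE, hU.fromSpec_app_self, Category.assoc, ← Functor.map_comp]
    convert Category.comp_id _ using 2
    exact (Spec Γ(X, U)).presheaf.map_id _
  rw [h1]
  exact Ideal.comap_map_of_bijective _ (ConcreteCategory.bijective_of_isIso (Scheme.ΓSpecIso Γ(X, U)).inv)

include hJ hf in
/-- the charts of the blow-up -/
theorem exists_charts : ∃ ψ : ∀ k, Spec (CommRingCat.of (AffineChart.Chart (I u₀ b) (gen u₀ b k))) ⟶ X',
    ∃ _ : ∀ k, IsOpenImmersion (ψ k),
      (∀ k, ψ k ≫ f = AffineChart.toBase (I u₀ b) (gen u₀ b k) ≫ hU.fromSpec) ∧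
      (∀ x : X', f x ∈ U → ∃ k, x ∈ (ψ k).opensRange) ∧
      ∀ k l (t : Spec (CommRingCat.of (AffineChart.Chart (I u₀ b) (gen u₀ b k)))),
        ψ k t ∈ (ψ l).opensRange ↔
          t ∈ PrimeSpectrum.basicOpen (AffineChart.div (I u₀ b) (gen u₀ b k) (gen_mem u₀ b l)) := by
  haveI := hU.isOpenImmersion_fromSpec
  have hb : _root_.BlowUp.IsBlowUp (pullback.fst hU.fromSpec f) (Existence.centre (I u₀ b)) :=
    comap_fromSpec u₀ b hU hJ ▸ Basic.flat_baseChange hU.fromSpec hf
  obtain ⟨e, he⟩ := Basic.exists_iso hb (Existence.isBlowUp_proj (I u₀ b))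
  let s := e.hom ≫ pullback.snd hU.fromSpec f
  refine ⟨fun k => ProjRees.chart (I u₀ b) (gen_mem u₀ b k) ≫ s, fun k => inferInstance, fun k => ?_,
    fun x hx => ?_, fun k l t => ?_⟩
  · rw [← ProjRees.chart_over (I u₀ b) (gen_mem u₀ b k), ← he]
    simp [s, Category.assoc, pullback.condition]
  · obtain ⟨y, hy⟩ : f x ∈ Set.range hU.fromSpec := hU.range_fromSpec.symm ▸ hx
    obtain ⟨p, -, hp⟩ := Scheme.Pullback.exists_preimage_pullback (f := hU.fromSpec) (g := f) y x hy
    obtain ⟨a, hal, ha, hz⟩ := BlowPerf.Global.exists_chart (List.ofFn (gen u₀ b)) rfl (e.inv p)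
    obtain ⟨k, rfl⟩ := List.mem_ofFn.1 hal
    obtain ⟨w, hw⟩ := hz
    refine ⟨k, w, ?_⟩
    show pullback.snd hU.fromSpec f (e.hom (ProjRees.chart (I u₀ b) _ w)) = x
    rw [show ProjRees.chart (I u₀ b) _ w = e.inv p from hw,
      show e.hom (e.inv p) = p from congr($(e.inv_hom_id) p)]
    exact hp
  · have h1 := ProjRees.chart_preimage_opensRange (I u₀ b) (gen_mem u₀ b k) (gen_mem u₀ b l)
    constructor
    · rintro ⟨w, hw⟩
      have : ProjRees.chart (I u₀ b) (gen_mem u₀ b l) w = ProjRees.chart (I u₀ b) (gen_mem u₀ b k) t :=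
        s.isOpenEmbedding.injective hw
      exact h1.le ⟨w, this⟩
    · intro ht
      obtain ⟨w, hw⟩ := h1.ge ht
      exact ⟨w, congrArg s hw⟩

include hP hU he hreg hJ hf hcomp in
theorem local_closedImmersion_koszul (k : Fin (m + 1)) :
    IsAffineOpen (D π q b k) ∧ IsClosedImmersion (j ∣_ D π q b k) ∧
      ∃ l : List Γ(P, D π q b k), (l = (List.ofFn
          (BlowPerf.Chart.eqn (gen u₀ b k) fun i => gen u₀ b (k.succAbove i))).map (coordHom π q b k).hom ∧
        l.length = m) ∧ LCI.IsKoszulRegularSeq Γ(P, D π q b k) l ∧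
        RingHom.ker (j.app (D π q b k)).hom = Ideal.ofList l := by
  obtain ⟨ψ, hψ, hψf, hcov, hov⟩ := exists_charts u₀ b hU hJ hf
  -- `f^#` of the generators on a chart
  let C := fun k => CommRingCat.of (AffineChart.Chart (I u₀ b) (gen u₀ b k))
  have htop : ∀ k, (ψ k ≫ f) ⁻¹ᵁ U = ⊤ := fun k => by
    rw [hψf k, Scheme.Hom.comp_preimage, hU.fromSpec_preimage_self]
    rfl
  have hfψ : ∀ k (a : Γ(X, U)), (ψ k ≫ f).appLE U ⊤ (htop k).ge a =
      (Scheme.ΓSpecIso (C k)).inv (algebraMap _ (AffineChart.Chart (I u₀ b) (gen u₀ b k)) a) := by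
    intro k a
    have h1 : hU.fromSpec.appLE U ⊤ hU.fromSpec_preimage_self.ge = (Scheme.ΓSpecIso Γ(X, U)).inv := by
      rw [Scheme.Hom.appLE, hU.fromSpec_app_self, Category.assoc, ← Functor.map_comp]
      convert Category.comp_id _ using 2
      exact (Spec Γ(X, U)).presheaf.map_id _
    have h2 : ∀ e', (AffineChart.toBase (I u₀ b) (gen u₀ b k) ≫ hU.fromSpec).appLE U ⊤ e' =
        (Scheme.ΓSpecIso Γ(X, U)).inv ≫ (AffineChart.toBase (I u₀ b) (gen u₀ b k)).appTop := by
      intro e'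
      rw [← h1, Scheme.Hom.appTop, ← Scheme.Hom.appLE_eq_app, Scheme.Hom.appLE_comp_appLE]
      rfl
    have h3 : (ψ k ≫ f).appLE U ⊤ (htop k).ge =
        (Scheme.ΓSpecIso Γ(X, U)).inv ≫ (AffineChart.toBase (I u₀ b) (gen u₀ b k)).appTop := by
      simp only [hψf k]
      exact h2 _
    rw [h3]
    exact congrArg (fun φ : Γ(X, U) →+* Γ(Spec (C k), ⊤) => φ a) (AffineChart.glob_toBase (I u₀ b) (gen u₀ b k))
  -- the two relations
  have hπU : ∀ k t, π ((ψ k ≫ j) t) ∈ U := fun k t => by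
    rw [← Scheme.Hom.comp_apply, Category.assoc, hjπ]
    exact (htop k).ge trivial
  have rel : ∀ k l i {V : (Spec (C k)).Opens} (hV : V ≤ (ψ k ≫ j) ⁻¹ᵁ D π q b l),
      (Spec (C k)).presheaf.map (homOfLE le_top).op ((ψ k ≫ f).appLE U ⊤ (htop k).ge (gen u₀ b i)) =
        (ψ k ≫ j).appLE (D π q b l) V hV (coord π q b l i) *
          (Spec (C k)).presheaf.map (homOfLE le_top).op ((ψ k ≫ f).appLE U ⊤ (htop k).ge (gen u₀ b l)) := by
    intro k l i V hV
    have hWU : j ⁻¹ᵁ D π q b l ≤ f ⁻¹ᵁ U := fun x hx => by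
      show f x ∈ U
      rw [← hjπ]
      exact D_le π q b l hx
    have := congrArg ((ψ k).appLE (j ⁻¹ᵁ D π q b l) V hV) (gen_rel u₀ π q hjπ φ κ b hcomp l i le_rfl hWU)
    rw [map_mul, ← ConcreteCategory.comp_apply, ← ConcreteCategory.comp_apply, ← ConcreteCategory.comp_apply,
      Scheme.Hom.appLE_comp_appLE, Scheme.Hom.appLE_comp_appLE] at this
    rw [← ConcreteCategory.comp_apply, ← ConcreteCategory.comp_apply, Scheme.Hom.appLE_map]
    exact this
  have hdiv : ∀ k i, (ψ k ≫ f).appLE U ⊤ (htop k).ge (gen u₀ b i) =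
      (ψ k ≫ f).appLE U ⊤ (htop k).ge (gen u₀ b k) *
        (Scheme.ΓSpecIso (C k)).inv (AffineChart.div (I u₀ b) (gen u₀ b k) (gen_mem u₀ b i)) := by
    intro k i
    rw [hfψ, hfψ, ← map_mul]
    exact congrArg _ (AffineChart.algebraMap_mul_div (I u₀ b) (gen u₀ b k) (gen_mem u₀ b i)).symm
  have hnzd : ∀ k (t : Spec (C k)), (Spec (C k)).presheaf.germ ⊤ t trivial
      ((ψ k ≫ f).appLE U ⊤ (htop k).ge (gen u₀ b k)) ∈ nonZeroDivisors ((Spec (C k)).presheaf.stalk t) := by
    intro k t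
    rw [hfψ]
    have := AffineChart.comp_mem_nonZeroDivisors (I u₀ b) (gen u₀ b k)
      (AffineChart.gen_toBase (I u₀ b) (gen u₀ b k) (gen_mem u₀ b k)) t
    rw [AffineChart.glob_toBase] at this
    exact this
  -- `c` (the coordinate) and `d` (the fraction) are inverse at common points
  have hinv : ∀ k l (t : Spec (C k)) (ht : (ψ k ≫ j) t ∈ D π q b l),
      IsUnit ((Spec (C k)).presheaf.germ ⊤ t trivial
        ((Scheme.ΓSpecIso (C k)).inv (AffineChart.div (I u₀ b) (gen u₀ b k) (gen_mem u₀ b l)))) ∧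
      IsUnit ((Spec (C k)).presheaf.germ ((ψ k ≫ j) ⁻¹ᵁ D π q b l) t ht
        ((ψ k ≫ j).app (D π q b l) (coord π q b l k))) := by
    intro k l t ht
    have h1 := congrArg ((Spec (C k)).presheaf.germ _ t ht) (rel k l k le_rfl)
    rw [map_mul, TopCat.Presheaf.germ_res_apply, TopCat.Presheaf.germ_res_apply, hdiv k l, map_mul,
      ← Scheme.Hom.app_eq_appLE] at h1
    have h2 := (mul_cancel_left_mem_nonZeroDivisors (hnzd k t)).1
      ((mul_left_comm _ _ _).trans (h1.symm.trans (mul_one _).symm))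
    exact ⟨IsUnit.of_mul_eq_one_right _ h2, IsUnit.of_mul_eq_one _ h2⟩
  -- the chart maps into `D`
  have hmem : ∀ k t, (ψ k ≫ j) t ∈ D π q b k := by
    intro k t
    obtain ⟨l, hl⟩ := exists_mem_D π q b hP he (hπU k t)
    have hu := (hinv k l t hl).2
    rw [← Scheme.Hom.germ_stalkMap_apply] at hu
    have hu' := (isUnit_map_iff ((ψ k ≫ j).stalkMap t).hom _).1 hu
    exact mem_genLocus_of_unit (D_le π q b l) (isFrame_genLocus (tau π q b l)) (coord_spec π q b l k) hl hu'
  have hrange : j ⁻¹ᵁ D π q b k = (ψ k).opensRange := by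
    apply le_antisymm
    · intro x hx
      have hxU : f x ∈ U := by
        rw [← hjπ]
        exact D_le π q b k hx
      obtain ⟨l, t, rfl⟩ := hcov x hxU
      refine (hov l k t).2 ?_
      have hu := (hinv l k t hx).1
      rw [← Scheme.mem_basicOpen (U := ⊤) _ _ t trivial] at hu
      exact (basicOpen_eq_of_affine (R := C l) _).le hu
    · rintro _ ⟨t, rfl⟩
      exact hmem k t
  have hD : (⊤ : (Spec (C k)).Opens) ≤ (ψ k ≫ j) ⁻¹ᵁ D π q b k := fun t _ => hmem k t
  have hDa := isAffineOpen_D π q b k hU hP he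
  -- the presentation
  have hperm := perm_ofFn (gen u₀ b) k
  have hreg' := KReg44.isKoszulRegularSeq_perm hperm hreg
  have hI' : I u₀ b = Ideal.ofList (gen u₀ b k :: List.ofFn fun i => gen u₀ b (k.succAbove i)) :=
    KReg44.ofList_perm hperm
  obtain ⟨F, hFs, hFk⟩ := BlowPerf.Chart.exists_presentation (gen u₀ b k)
    (fun i => gen u₀ b (k.succAbove i)) hreg' hI'
  have hFX : ∀ i, F (MvPolynomial.X i) =
      AffineChart.div (I u₀ b) (gen u₀ b k) (gen_mem u₀ b (k.succAbove i)) := by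
    intro i
    have h0 : F (BlowPerf.Chart.eqn (gen u₀ b k) (fun i => gen u₀ b (k.succAbove i)) i) = 0 := by
      have hm : BlowPerf.Chart.eqn (gen u₀ b k) (fun i => gen u₀ b (k.succAbove i)) i ∈
          RingHom.ker F.toRingHom := hFk ▸ Ideal.subset_span (List.mem_ofFn.2 ⟨i, rfl⟩)
      exact hm
    rw [BlowPerf.Chart.eqn, map_sub, map_mul, ← MvPolynomial.algebraMap_eq, AlgHom.commutes, AlgHom.commutes,
      ← AffineChart.algebraMap_mul_div (I u₀ b) (gen u₀ b k) (gen_mem u₀ b (k.succAbove i)), ← mul_sub] at h0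
    exact sub_eq_zero.1 ((mul_cancel_left_mem_nonZeroDivisors
      (AffineChart.algebraMap_mem_nonZeroDivisors (I u₀ b) (gen u₀ b k))).1 (h0.trans (mul_zero _).symm))
  have hcoord : coordHom π q b k ≫ (ψ k ≫ j).appLE (D π q b k) ⊤ hD =
      CommRingCat.ofHom F.toRingHom ≫ (Scheme.ΓSpecIso (C k)).inv := by
    apply CommRingCat.hom_ext
    apply MvPolynomial.ringHom_ext
    · intro a
      show (ψ k ≫ j).appLE (D π q b k) ⊤ hD (coordHom π q b k (MvPolynomial.C a)) =
        (Scheme.ΓSpecIso (C k)).inv (F (MvPolynomial.C a))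
      rw [← MvPolynomial.algebraMap_eq, AlgHom.commutes, ← hfψ, MvPolynomial.algebraMap_eq, coordHom_C,
        ← ConcreteCategory.comp_apply, Scheme.Hom.appLE_comp_appLE]
      simp only [Category.assoc, hjπ]
    · intro i
      show (ψ k ≫ j).appLE (D π q b k) ⊤ hD (coordHom π q b k (MvPolynomial.X i)) =
        (Scheme.ΓSpecIso (C k)).inv (F (MvPolynomial.X i))
      rw [coordHom_X, hFX]
      refine TopCat.Presheaf.section_ext (Spec (C k)).sheaf ⊤ _ _ fun t _ => ?_
      have h1 := congrArg ((Spec (C k)).presheaf.germ ⊤ t trivial) (rel k k (k.succAbove i) hD)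
      rw [map_mul, TopCat.Presheaf.germ_res_apply, TopCat.Presheaf.germ_res_apply, hdiv k (k.succAbove i),
        map_mul, mul_comm] at h1
      exact (mul_cancel_right_mem_nonZeroDivisors (hnzd k t)).1 h1.symm
  have hbij := coordHom_bijective π q b k hU hP he
  refine ⟨hDa, ?_, (List.ofFn (BlowPerf.Chart.eqn (gen u₀ b k) fun i => gen u₀ b (k.succAbove i))).map
    (coordHom π q b k).hom, ⟨rfl, by simp⟩, KReg44.isKoszulRegularSeq_map _
      (RingHom.Flat.of_bijective hbij) (BlowPerf.Chart.regular _ _ hreg'), ?_⟩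
  · have hr : Set.range (ψ k) = Set.range (j ⁻¹ᵁ D π q b k).ι := by
      rw [Scheme.Opens.range_ι, hrange]
      rfl
    let e := IsOpenImmersion.isoOfRangeEq (ψ k) (j ⁻¹ᵁ D π q b k).ι hr
    have he' : e.hom ≫ (j ⁻¹ᵁ D π q b k).ι = ψ k := IsOpenImmersion.isoOfRangeEq_hom_fac _ _ hr
    haveI := isIso_coordMap π q b k hU hP he
    have key : (e.hom ≫ (j ∣_ D π q b k)) ≫ coordMap π q b k = Spec.map (CommRingCat.ofHom F.toRingHom) := by
      apply G_ext
      have h1 : G ((e.hom ≫ (j ∣_ D π q b k)) ≫ coordMap π q b k) =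
          G (coordMap π q b k) ≫ (e.hom ≫ (j ∣_ D π q b k)).appTop := by
        rw [G, G, Scheme.Hom.comp_appTop, Category.assoc]
      rw [h1, G_coordMap, Category.assoc, topIso_inv_eq _ (by simp), Scheme.Hom.appTop,
        ← Scheme.Hom.appLE_eq_app, Scheme.Hom.appLE_comp_appLE]
      have h2 : ∀ e₁, ((e.hom ≫ (j ∣_ D π q b k)) ≫ (D π q b k).ι).appLE (D π q b k)
          ((e.hom ≫ (j ∣_ D π q b k)) ⁻¹ᵁ ⊤) e₁ = (ψ k ≫ j).appLE (D π q b k) ⊤ hD := by
        rw [Category.assoc, morphismRestrict_ι, ← Category.assoc, he']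
        intro; rfl
      rw [h2, hcoord, G, ← Scheme.ΓSpecIso_inv_naturality]
    have hc : IsClosedImmersion ((e.hom ≫ (j ∣_ D π q b k)) ≫ coordMap π q b k) := by
      rw [key]
      exact IsClosedImmersion.spec_of_surjective _ hFs
    rwa [MorphismProperty.cancel_right_of_respectsIso @IsClosedImmersion,
      MorphismProperty.cancel_left_of_respectsIso @IsClosedImmersion] at hc
  · have hs : Function.Bijective ((ψ k).appLE (j ⁻¹ᵁ D π q b k) ⊤ hD) := by
      haveI : IsIso ((ψ k).app (j ⁻¹ᵁ D π q b k)) := (ψ k).isIso_app _ hrange.le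
      have : (ψ k).appLE (j ⁻¹ᵁ D π q b k) ⊤ hD =
          (ψ k).app (j ⁻¹ᵁ D π q b k) ≫ (Spec (C k)).presheaf.map (eqToHom (top_le_iff.1 hD).symm).op := by
        rw [Scheme.Hom.app_eq_appLE, Scheme.Hom.appLE_map]
      rw [this]
      exact ConcreteCategory.bijective_of_isIso _
    ext x
    obtain ⟨y, rfl⟩ := hbij.2 x
    rw [← Ideal.map_ofList, ← hFk, RingHom.mem_ker]
    have hy := congrArg (fun φ : CommRingCat.of (MvPolynomial (Fin m) Γ(X, U)) ⟶ Γ(Spec (C k), ⊤) => φ y) hcoord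
    rw [ConcreteCategory.comp_apply, ConcreteCategory.comp_apply, ← Scheme.Hom.appLE_comp_appLE (ψ k) j
      (D π q b k) (j ⁻¹ᵁ D π q b k) ⊤ le_rfl hD, ConcreteCategory.comp_apply, ← Scheme.Hom.app_eq_appLE] at hy
    constructor
    · intro h0
      have h0' : j.app (D π q b k) (coordHom π q b k y) = 0 := h0
      rw [h0', map_zero] at hy
      refine Ideal.mem_map_of_mem _ ?_
      exact (ConcreteCategory.bijective_of_isIso (Scheme.ΓSpecIso (C k)).inv).1 (hy.symm.trans (map_zero _).symm)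
    · intro h0
      obtain ⟨y', hy', hyy⟩ := (Ideal.mem_map_iff_of_surjective _ hbij.2).1 h0
      obtain rfl := hbij.1 hyy
      rw [show (CommRingCat.ofHom F.toRingHom) y' = 0 from hy', map_zero] at hy
      exact hs.1 (hy.trans (map_zero _).symm)

end Groth.Agent.Desc44.ProjBundle
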